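import Cfsg.Agent.H109.RG.McLModel
import Cfsg.Agent.H90.RC.Tools
import Cfsg.Agent.H867.RG.SporOf
import Cfsg.Agent.UGT.End.McL

/-!
# S3509, the row `McL` (helper109)

`rc_mcl : Spor.IsoMcL S → RC S`, outer automorphisms included.

* `mem_cl` : `s ∈ N` an involution, `y ≠ 1, s` commuting with `s`: `s` is in the normal closure of `y` in `C(s)`
  (`C_N(s) = 2.A₈`, and an automorphism trivial on it is `1` or the conjugation by `s`);
* `exists_inv_cl` : `t² = 1`, `y ∈ N` commuting with `t`: the normal closure of `y` in `C(t)` contains an involution of `N`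
  (`O(C_N(t)) = 1`);
* `no_outer` : an element outside `N` does not commute with commuting elements of order 3 and 5 of `N`;
* `no_cov` : two members of odd order have orders 3 and 5: rule A with the Sylow 5-subgroup of `C_N(y)`, `|y| = 5`.
-/

set_option autoImplicit false
open Cfsg

namespace Cfsg.Agent.H109.RG.McL

open MulAction Subgroup Equiv Cfsg.Agent.H106.RC Cfsg.Agent.H867.RC Cfsg.Agent.H90.RC
open Cfsg.Agent.TypeM.FactsAut Cfsg.Agent.TypeM.Two Cfsg.Agent.SporRec.TwoAn

/-! ### Permutations of eight points -/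

theorem cycleType_of_order {ρ : Perm (Fin 8)} (h : orderOf ρ = 15) : ρ.cycleType = {3, 5} := by
  have h8 : ρ.cycleType.sum ≤ 8 := by
    have := Perm.sum_cycleType_le ρ
    simpa using this
  have hl : ρ.cycleType.lcm = 15 := by rw [Perm.lcm_cycleType, h]
  have hm : ∀ n ∈ ρ.cycleType, n = 3 ∨ n = 5 := by
    intro n hn
    have h1 : n ∣ 15 := by rw [← hl]; exact Multiset.dvd_lcm hn
    have h2 := Perm.two_le_of_mem_cycleType hn
    have h3 : n ≤ 8 := (Multiset.le_sum_of_mem hn).trans h8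
    interval_cases n <;> first | exact Or.inl rfl | exact Or.inr rfl | (exfalso; revert h1; decide)
  have h3 : 3 ∈ ρ.cycleType := by
    by_contra h3
    have h4 : ρ.cycleType.lcm ∣ 5 := Multiset.lcm_dvd.2 fun n hn => by
      rcases hm n hn with rfl | rfl
      · exact absurd hn h3
      · exact dvd_rfl
    rw [hl] at h4
    exact absurd h4 (by decide)
  obtain ⟨m1, hm1⟩ := Multiset.exists_cons_of_mem h3
  have h5 : 5 ∈ m1 := by
    by_contra h5
    have h4 : ρ.cycleType.lcm ∣ 3 := Multiset.lcm_dvd.2 fun n hn => by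
      rcases hm n hn with rfl | rfl
      · exact dvd_rfl
      · rw [hm1, Multiset.mem_cons] at hn
        rcases hn with hn | hn
        · exact absurd hn (by decide)
        · exact absurd hn h5
    rw [hl] at h4
    exact absurd h4 (by decide)
  obtain ⟨m2, hm2⟩ := Multiset.exists_cons_of_mem h5
  have h0 : m2 = 0 := by
    by_contra h0
    obtain ⟨n, hn⟩ := Multiset.exists_mem_of_ne_zero h0
    have h1 : 2 ≤ n := Perm.two_le_of_mem_cycleType (σ := ρ) (by
      rw [hm1, hm2]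
      exact Multiset.mem_cons_of_mem (Multiset.mem_cons_of_mem hn))
    have h2 := Multiset.le_sum_of_mem hn
    rw [hm1, hm2, Multiset.sum_cons, Multiset.sum_cons] at h8
    omega
  rw [hm1, hm2, h0]
  rfl

theorem sign_of_comm {ρ σ : Perm (Fin 8)} (h : orderOf ρ = 15) (hc : σ * ρ = ρ * σ) : Perm.sign σ = 1 := by
  have h1 := Perm.nat_card_centralizer ρ
  rw [cycleType_of_order h] at h1
  have h2 : Nat.card (centralizer ({ρ} : Set (Perm (Fin 8)))) = 15 := by
    rw [h1]
    decide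
  have h3 := Subgroup.orderOf_dvd_natCard _ (mem_centralizer_singleton_iff.2 hc)
  rw [h2] at h3
  have h4 : σ ^ 15 = 1 := orderOf_dvd_iff_pow_eq_one.1 h3
  have h5 : Perm.sign σ ^ 15 = 1 := by rw [← map_pow, h4, map_one]
  rcases Int.units_eq_one_or (Perm.sign σ) with h6 | h6
  · exact h6
  · rw [h6] at h5
    exact absurd h5 (by decide)

/-! ### Normal subgroups of `2.A₈` -/

/-- nontrivial normal subgroups of `2.A₈` contain `z` -/
theorem z_mem_of_normal {C : Type*} [Group C] (K : Cover (Fin 8) C) {M : Subgroup C} (hn : M.Normal) (hM : M ≠ ⊥) :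
    K.z ∈ M := by
  by_cases hall : ∀ m ∈ M, K.π m = 1
  · obtain ⟨⟨m, hm⟩, hm1⟩ := ne_bot_iff_exists_ne_one.1 hM
    rcases (K.ker m).1 (hall m hm) with h | h
    · exact absurd (Subtype.ext h) hm1
    · rwa [← h]
  push Not at hall
  obtain ⟨m, hm, hm1⟩ := hall
  let φ : C →* alternatingGroup (Fin 8) := K.π.codRestrict _ K.mem_alternating
  have hφ : Function.Surjective φ := fun σ => by
    obtain ⟨g, hg⟩ := K.exists_lift σ.2
    exact ⟨g, Subtype.ext hg⟩
  have hs : IsSimpleGroup (alternatingGroup (Fin 8)) := alternatingGroup.isSimpleGroup (by simp)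
  have hn' : (M.map φ).Normal := hn.map φ hφ
  rcases hs.eq_bot_or_eq_top_of_normal _ hn' with h | h
  · exfalso
    apply hm1
    have h1 : φ m ∈ M.map φ := mem_map_of_mem φ hm
    rw [h, mem_bot] at h1
    exact congrArg Subtype.val h1
  · have h1 : (⟨swap 0 1 * swap 2 3, by rw [Perm.mem_alternatingGroup]; decide⟩ : alternatingGroup (Fin 8)) ∈ M.map φ := by
      rw [h]
      trivial
    obtain ⟨m', hm', h2⟩ := h1
    have h3 : m' * m' = K.z := K.dbl 0 1 2 3 (by decide) (by decide) (by decide) (by decide) (by decide) (by decide) m'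
      (congrArg Subtype.val h2)
    rw [← h3]
    exact mul_mem hm' hm'

/-! ### Closures -/

theorem conj_cl {G : Type*} [Group G] {s y c : G} (hc : c * s = s * c) {k : G}
    (hk : k ∈ closure {z | ∃ c : G, c * s = s * c ∧ z = c * y * c⁻¹}) :
    c * k * c⁻¹ ∈ closure {z | ∃ c : G, c * s = s * c ∧ z = c * y * c⁻¹} := by
  refine closure_induction (p := fun k _ => c * k * c⁻¹ ∈ closure {z | ∃ c : G, c * s = s * c ∧ z = c * y * c⁻¹})
    ?_ ?_ ?_ ?_ hk
  · rintro _ ⟨d, hd, rfl⟩
    refine subset_closure ⟨c * d, ?_, by group⟩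
    rw [mul_assoc, hd, ← mul_assoc, hc, mul_assoc]
  · simp [one_mem]
  · intro a b _ _ ha hb
    have e : c * (a * b) * c⁻¹ = (c * a * c⁻¹) * (c * b * c⁻¹) := by group
    rw [e]
    exact mul_mem ha hb
  · intro a _ ha
    have e : c * a⁻¹ * c⁻¹ = (c * a * c⁻¹)⁻¹ := by group
    rw [e]
    exact inv_mem ha

section env

variable {G Ω : Type} [Group G] [Finite G] [MulAction G Ω] {N : Subgroup G}

/-- `s` is in the normal closure of `y` in `C(s)` -/
theorem mem_cl (hE : Env G Ω N) (h : Spor.IsoMcL N) {s y : G} (hsN : s ∈ N) (hs : s * s = 1) (hs1 : s ≠ 1)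
    (hy1 : y ≠ 1) (hys : y ≠ s) (hc : y * s = s * y) :
    s ∈ closure {z | ∃ c : G, c * s = s * c ∧ z = c * y * c⁻¹} := by
  obtain ⟨hfin, hsim, hcard, ⟨L0⟩⟩ := TypeM.FactsMcL.facts h
  obtain ⟨L, hL⟩ := L0.exists_rebase (s := ⟨s, hsN⟩) (Subtype.ext hs) (fun h => hs1 (congrArg Subtype.val h))
  have hN := hE.norm
  obtain ⟨φ, hφ⟩ : ∃ φ : MulAut N, φ = MulAut.conjNormal y := ⟨_, rfl⟩
  have hφv : ∀ g : N, ((φ g : N) : G) = y * g * y⁻¹ := fun g => by rw [hφ]; exact MulAut.conjNormal_apply y g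
  by_cases hall : ∀ g ∈ centralizer ({L.t} : Set N), φ g = g
  · exfalso
    rcases eq_one_or_conj L (Or.inl rfl) (gen L (Or.inl ⟨rfl, hcard⟩)) hall with h1 | h1
    · apply hy1
      have h2 : y ∈ centralizer (N : Set G) := by
        rw [mem_centralizer_iff]
        intro n hn
        have h3 := hφv ⟨n, hn⟩
        rw [h1] at h3
        have h4 : n = y * n * y⁻¹ := h3
        calc n * y = y * n * y⁻¹ * y := by rw [← h4]
          _ = y * n := by group
      rwa [hE.cent, mem_bot] at h2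
    · apply hys
      have h2 : s⁻¹ * y ∈ centralizer (N : Set G) := by
        rw [mem_centralizer_iff]
        intro n hn
        have h3 := hφv ⟨n, hn⟩
        rw [h1, hL, MulAut.conj_apply] at h3
        have h4 : s * n * s⁻¹ = y * n * y⁻¹ := h3
        calc n * (s⁻¹ * y) = s⁻¹ * (s * n * s⁻¹) * y := by group
          _ = s⁻¹ * (y * n * y⁻¹) * y := by rw [h4]
          _ = s⁻¹ * y * n := by group
      rw [hE.cent, mem_bot, inv_mul_eq_one] at h2
      exact h2.symm
  · push Not at hall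
    obtain ⟨g, hg, hgφ⟩ := hall
    have hcm : ∀ c : N, c ∈ centralizer ({L.t} : Set N) → (c : G) * s = s * c := by
      intro c hc
      have h1 := L.mem_iff.1 hc
      rw [hL] at h1
      exact congrArg Subtype.val h1
    let M : Subgroup (centralizer ({L.t} : Set N)) :=
      ((closure {z | ∃ c : G, c * s = s * c ∧ z = c * y * c⁻¹}).comap N.subtype).comap (Subgroup.subtype _)
    have hMn : M.Normal := by
      constructor
      intro m hm c
      exact conj_cl (hcm _ c.2) hm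
    have hyK : y ∈ closure {z | ∃ c : G, c * s = s * c ∧ z = c * y * c⁻¹} :=
      subset_closure ⟨1, by simp, by simp⟩
    have hφc : φ g⁻¹ ∈ centralizer ({L.t} : Set N) := by
      rw [L.mem_iff]
      have h1 : φ L.t = L.t := by
        apply Subtype.ext
        rw [hφv, hL]
        show y * s * y⁻¹ = s
        rw [hc]
        group
      have h2 : g⁻¹ * L.t = L.t * g⁻¹ := L.mem_iff.1 (inv_mem hg)
      calc φ g⁻¹ * L.t = φ g⁻¹ * φ L.t := by rw [h1]
        _ = φ (g⁻¹ * L.t) := by rw [map_mul]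
        _ = φ L.t * φ g⁻¹ := by rw [h2, map_mul]
        _ = L.t * φ g⁻¹ := by rw [h1]
    have hM : M ≠ ⊥ := by
      intro hbot
      have h1 : (⟨g, hg⟩ : centralizer ({L.t} : Set N)) * ⟨φ g⁻¹, hφc⟩ ∈ M := by
        show ((g : G) * (φ g⁻¹ : N)) ∈ closure {z | ∃ c : G, c * s = s * c ∧ z = c * y * c⁻¹}
        rw [hφv]
        have e : (g : G) * (y * ((g⁻¹ : N) : G) * y⁻¹) = (g : G) * y * (g : G)⁻¹ * y⁻¹ := by
          rw [Subgroup.coe_inv]
          group
        rw [e]
        exact mul_mem (subset_closure ⟨g, hcm g hg, rfl⟩) (inv_mem hyK)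
      rw [hbot, mem_bot] at h1
      apply hgφ
      have h2 : g * φ g⁻¹ = 1 := congrArg Subtype.val h1
      rw [map_inv, mul_inv_eq_one] at h2
      exact h2.symm
    have hz := z_mem_of_normal L.K hMn hM
    have h1 : ((L.K.z : N) : G) = s := by rw [L.hz, hL]
    have h2 : ((L.K.z : N) : G) ∈ closure {z | ∃ c : G, c * s = s * c ∧ z = c * y * c⁻¹} := hz
    rwa [h1] at h2

/-- a cover by an involution of `N` and another element -/
theorem dead_inner [Nonempty Ω] (hE : Env G Ω N) (h : Spor.IsoMcL N) {s y : G} (hsN : s ∈ N) (hs : s * s = 1)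
    (hs1 : s ≠ 1) (hy1 : y ≠ 1) (hys : y ≠ s) (hc : y * s = s * y) (hcov : ∀ ω : Ω, s • ω = ω ∨ y • ω = ω) : False :=
  rulePair hE hs1 hcov (mem_cl hE h hsN hs hs1 hy1 hys hc)

/-- an involution in the normal closure of `y` in `C(t)` -/
theorem exists_inv_cl (hE : Env G Ω N) (h : Spor.IsoMcL N) {t y : G} (ht : t * t = 1) (hyN : y ∈ N) (hy1 : y ≠ 1)
    (hc : y * t = t * y) : ∃ s ∈ N, s * s = 1 ∧ s ≠ 1 ∧ t * s = s * t ∧
      s ∈ closure {z | ∃ c : G, c * t = t * c ∧ z = c * y * c⁻¹} := by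
  have hN := hE.norm
  obtain ⟨φ, hφ⟩ : ∃ φ : MulAut N, φ = MulAut.conjNormal t := ⟨_, rfl⟩
  have hφv : ∀ g : N, ((φ g : N) : G) = t * g * t⁻¹ := fun g => by rw [hφ]; exact MulAut.conjNormal_apply t g
  have hφφ : φ * φ = 1 := by rw [hφ, ← map_mul, ht, map_one]
  have hK : closure {z | ∃ c : G, c * t = t * c ∧ z = c * y * c⁻¹} ≤ centralizer ({t} : Set G) := by
    rw [closure_le]
    rintro _ ⟨c, hct, rfl⟩
    rw [SetLike.mem_coe, mem_centralizer_singleton_iff]
    have h1 : c⁻¹ * t = t * c⁻¹ := ((show Commute c t from hct).inv_left).eq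
    calc c * y * c⁻¹ * t = c * y * (c⁻¹ * t) := by group
      _ = c * (y * t) * c⁻¹ := by rw [h1]; group
      _ = (c * t) * y * c⁻¹ := by rw [hc]; group
      _ = t * (c * y * c⁻¹) := by rw [hct]; group
  have hyK : y ∈ closure {z | ∃ c : G, c * t = t * c ∧ z = c * y * c⁻¹} := subset_closure ⟨1, by simp, by simp⟩
  let W : Subgroup N := (closure {z | ∃ c : G, c * t = t * c ∧ z = c * y * c⁻¹}).comap N.subtype
  have hW : ¬ Odd (Nat.card W) := by
    intro hodd
    have h1 := UGT.End.McL.fixCore h φ hφφ W hodd (by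
      intro w hw
      apply Subtype.ext
      have h2 : (w : G) * t = t * w := mem_centralizer_singleton_iff.1 (hK hw)
      rw [hφv, ← h2]
      group) (by
      intro g hg w hw
      have h2 : (g : G) * t = t * g := by
        have h3 := hφv g
        rw [hg] at h3
        calc (g : G) * t = t * g * t⁻¹ * t := by rw [← h3]
          _ = t * g := by group
      exact conj_cl h2 hw)
    apply hy1
    have h2 : (⟨y, hyN⟩ : N) ∈ W := hyK
    rw [h1, mem_bot] at h2
    exact congrArg Subtype.val h2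
  rw [Nat.not_odd_iff_even, even_iff_two_dvd] at hW
  have : Fact (Nat.Prime 2) := ⟨Nat.prime_two⟩
  obtain ⟨w, hw⟩ := exists_prime_orderOf_dvd_card' 2 hW
  have hw2 : w * w = 1 := by rw [← pow_two, ← hw, pow_orderOf_eq_one]
  have hw1 : w ≠ 1 := by
    rintro rfl
    rw [orderOf_one] at hw
    exact absurd hw (by norm_num)
  refine ⟨((w : N) : G), (w : N).2, ?_, ?_, ?_, w.2⟩
  · exact congrArg (fun u : W => ((u : N) : G)) hw2
  · intro h1
    apply hw1
    exact Subtype.ext (Subtype.ext h1)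
  · exact (mem_centralizer_singleton_iff.1 (hK w.2)).symm

/-- a cover by an element of order 2 and an element of `N` -/
theorem dead_two [Nonempty Ω] (hE : Env G Ω N) (h : Spor.IsoMcL N) {t y : G} (ht : t * t = 1) (ht1 : t ≠ 1)
    (hyN : y ∈ N) (hy1 : y ≠ 1) (hyt : y ≠ t) (hc : y * t = t * y) (hcov : ∀ ω : Ω, t • ω = ω ∨ y • ω = ω) : False := by
  by_cases htN : t ∈ N
  · exact dead_inner hE h htN ht ht1 hy1 hyt hc hcov
  · obtain ⟨s, hsN, hs, hs1, hst, hscl⟩ := exists_inv_cl hE h ht hyN hy1 hc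
    exact dead_inner hE h hsN hs hs1 ht1 (fun h1 => htN (h1 ▸ hsN)) hst fun ω => (pair_mv hcov hscl ω).symm

/-- an element outside `N` does not commute with commuting elements of order 3 and 5 -/
theorem no_outer (hE : Env G Ω N) (h : Spor.IsoMcL N) {t : G} (htN : t ∉ N) {x y : N} (hx : orderOf x = 3)
    (hy : orderOf y = 5) (hxy : x * y = y * x) (htx : t * x = x * t) (hty : t * y = y * t) : False := by
  obtain ⟨hfin, hsim, hcard, ⟨L0⟩⟩ := TypeM.FactsMcL.facts h
  obtain ⟨Q, z, -, -, -, -, -, -, -, -, -, -, h750, i, hi, hix, hiy⟩ := exists_model h hx hy hxy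
  have hN := hE.norm
  -- the involutions of `D = C(x) ∩ C(y)`
  obtain ⟨D, hD⟩ : ∃ D : Subgroup N, D = centralizer ({x} : Set N) ⊓ centralizer ({y} : Set N) := ⟨_, rfl⟩
  have hiD : i ∈ D := by
    rw [hD]
    exact mem_inf.2 ⟨mem_centralizer_singleton_iff.2 hix, mem_centralizer_singleton_iff.2 hiy⟩
  have hjN : t * i * t⁻¹ ∈ N := hN.conj_mem _ i.2 t
  have hcomj : ∀ w : N, t * w = w * t → i * w = w * i → (⟨t * i * t⁻¹, hjN⟩ : N) * w = w * ⟨t * i * t⁻¹, hjN⟩ := by
    intro w htw hiw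
    apply Subtype.ext
    have h1 : t⁻¹ * (w : G) = w * t⁻¹ := ((show Commute t (w : G) from htw).inv_left).eq
    have h2 : (i : G) * w = w * i := congrArg Subtype.val hiw
    show t * i * t⁻¹ * w = w * (t * i * t⁻¹)
    calc t * i * t⁻¹ * (w : G) = t * i * (t⁻¹ * w) := by group
      _ = t * (i * w) * t⁻¹ := by rw [h1]; group
      _ = (t * w) * i * t⁻¹ := by rw [h2]; group
      _ = w * (t * i * t⁻¹) := by rw [htw]; group
  have hjD : (⟨t * i * t⁻¹, hjN⟩ : N) ∈ D := by
    rw [hD]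
    exact mem_inf.2 ⟨mem_centralizer_singleton_iff.2 (hcomj x htx hix), mem_centralizer_singleton_iff.2 (hcomj y hty hiy)⟩
  have hj : orderOf (⟨t * i * t⁻¹, hjN⟩ : N) = 2 := by
    rw [← Subgroup.orderOf_coe]
    have h1 := (MulAut.conj t).orderOf_eq (i : G)
    rw [MulAut.conj_apply, Subgroup.orderOf_coe, hi] at h1
    exact h1
  have h4 : ¬ 2 ^ 2 ∣ Nat.card D := by
    intro h1
    have h2 := h1.trans (Subgroup.card_dvd_of_le (show D ≤ centralizer ({y} : Set N) by rw [hD]; exact inf_le_right))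
    rw [h750] at h2
    exact absurd h2 (by norm_num)
  obtain ⟨d, hd⟩ := Cfsg.Agent.H1.RealTool.exists_conj_mem_zpowers (G := D) Nat.prime_two h4 (x := ⟨i, hiD⟩)
    (a := ⟨_, hjD⟩) (by rw [Subgroup.orderOf_mk, hi]) (by rw [Subgroup.orderOf_mk, hj])
  obtain ⟨k, hk⟩ := mem_zpowers_iff.1 hd
  have hk' : i ^ k = (d : N) * ⟨t * i * t⁻¹, hjN⟩ * (d : N)⁻¹ := congrArg Subtype.val hk
  have hki : (d : N) * ⟨t * i * t⁻¹, hjN⟩ * (d : N)⁻¹ = i := by
    have hii : i ^ (2 : ℤ) = 1 := by
      have := pow_orderOf_eq_one i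
      rw [hi] at this
      exact_mod_cast this
    rcases Int.even_or_odd' k with ⟨m, hm | hm⟩
    · exfalso
      rw [hm, zpow_mul, hii, one_zpow] at hk'
      have h1 : (⟨t * i * t⁻¹, hjN⟩ : N) = 1 := by
        have : (⟨t * i * t⁻¹, hjN⟩ : N) = (d : N)⁻¹ * ((d : N) * ⟨t * i * t⁻¹, hjN⟩ * (d : N)⁻¹) * d := by group
        rw [this, ← hk']
        group
      rw [h1, orderOf_one] at hj
      exact absurd hj (by norm_num)
    · rw [← hk', hm, zpow_add, zpow_mul, hii, one_zpow, one_mul, zpow_one]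
  -- `t' = d t` commutes with `i`, `x`, `y`
  have hDle : D ≤ centralizer ({x} : Set N) ⊓ centralizer ({y} : Set N) := hD.le
  have hdx : (d : N) * x = x * d := mem_centralizer_singleton_iff.1 (mem_inf.1 (hDle d.2)).1
  have hdy : (d : N) * y = y * d := mem_centralizer_singleton_iff.1 (mem_inf.1 (hDle d.2)).2
  obtain ⟨t', ht'⟩ : ∃ t' : G, t' = ((d : N) : G) * t := ⟨_, rfl⟩
  have ht'N : t' ∉ N := by
    intro h1
    apply htN
    have h2 : t = (((d : N) : G))⁻¹ * t' := by rw [ht']; group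
    rw [h2]
    exact N.mul_mem (N.inv_mem (d : N).2) h1
  have hi' : t' * i * t'⁻¹ = i := by
    have h1 := congrArg Subtype.val hki
    rw [ht']
    calc ((d : N) : G) * t * i * (((d : N) : G) * t)⁻¹ = ((d : N) : G) * (t * i * t⁻¹) * (((d : N) : G))⁻¹ := by group
      _ = i := h1
  have hx' : t' * x * t'⁻¹ = x := by
    have h1 : ((d : N) : G) * x = x * (d : N) := congrArg Subtype.val hdx
    rw [ht']
    calc ((d : N) : G) * t * x * (((d : N) : G) * t)⁻¹ = ((d : N) : G) * (t * x) * t⁻¹ * (((d : N) : G))⁻¹ := by group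
      _ = ((d : N) : G) * x * (((d : N) : G))⁻¹ := by rw [htx]; group
      _ = x := by rw [h1]; group
  have hy' : t' * y * t'⁻¹ = y := by
    have h1 : ((d : N) : G) * y = y * (d : N) := congrArg Subtype.val hdy
    rw [ht']
    calc ((d : N) : G) * t * y * (((d : N) : G) * t)⁻¹ = ((d : N) : G) * (t * y) * t⁻¹ * (((d : N) : G))⁻¹ := by group
      _ = ((d : N) : G) * y * (((d : N) : G))⁻¹ := by rw [hty]; group
      _ = y := by rw [h1]; group
  obtain ⟨φ, hφ⟩ : ∃ φ : MulAut N, φ = MulAut.conjNormal t' := ⟨_, rfl⟩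
  have hφv : ∀ g : N, ((φ g : N) : G) = t' * g * t'⁻¹ := fun g => by rw [hφ]; exact MulAut.conjNormal_apply t' g
  have hi2 : i * i = 1 := by rw [← pow_two, ← hi, pow_orderOf_eq_one]
  have hi1 : i ≠ 1 := by
    rintro rfl
    rw [orderOf_one] at hi
    exact absurd hi (by norm_num)
  obtain ⟨L, hL⟩ := L0.exists_rebase hi2 hi1
  have hφL : φ L.t = L.t := by
    apply Subtype.ext
    rw [hφv, hL, hi']
  obtain ⟨σ, hσ⟩ := exists_sigma L (by norm_num) hφL
  have hxL : x ∈ centralizer ({L.t} : Set N) := by rw [L.mem_iff, hL, hix]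
  have hyL : y ∈ centralizer ({L.t} : Set N) := by rw [L.mem_iff, hL, hiy]
  have key : ∀ w : N, ∀ hw : w ∈ centralizer ({L.t} : Set N), t' * w * t'⁻¹ = w →
      σ * L.K.π ⟨w, hw⟩ = L.K.π ⟨w, hw⟩ * σ := by
    intro w hw hw'
    have h1 := hσ ⟨w, hw⟩
    have h2 : resAut L.t φ hφL ⟨w, hw⟩ = ⟨w, hw⟩ := by
      apply Subtype.ext
      rw [resAut_coe]
      apply Subtype.ext
      rw [hφv, hw']
    rw [h2] at h1
    calc σ * L.K.π ⟨w, hw⟩ = σ * L.K.π ⟨w, hw⟩ * σ⁻¹ * σ := by group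
      _ = L.K.π ⟨w, hw⟩ * σ := by rw [← h1]
  have hord : ∀ (p : ℕ) (w : N) (hw : w ∈ centralizer ({L.t} : Set N)), p.Prime → orderOf w = p → p ≠ 2 →
      orderOf (L.K.π ⟨w, hw⟩) = p := by
    intro p w hw hp hwp hp2
    have h1 : orderOf (L.K.π ⟨w, hw⟩) ∣ p := by
      have h2 := orderOf_map_dvd L.K.π (⟨w, hw⟩ : centralizer ({L.t} : Set N))
      rwa [Subgroup.orderOf_mk, hwp] at h2
    rcases (Nat.dvd_prime hp).1 h1 with h2 | h2
    · exfalso
      rw [orderOf_eq_one_iff, L.K.ker] at h2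
      rcases h2 with h2 | h2
      · have h3 : w = 1 := congrArg Subtype.val h2
        rw [h3, orderOf_one] at hwp
        exact hp.one_lt.ne hwp
      · have h3 : w = L.t := (congrArg Subtype.val h2).trans L.hz
        rw [h3, L.orderOf_t] at hwp
        exact hp2 hwp.symm
    · exact h2
  have hox := hord 3 x hxL Nat.prime_three hx (by norm_num)
  have hoy := hord 5 y hyL Nat.prime_five hy (by norm_num)
  have hcom : Commute (L.K.π ⟨x, hxL⟩) (L.K.π ⟨y, hyL⟩) := by
    show L.K.π ⟨x, hxL⟩ * L.K.π ⟨y, hyL⟩ = L.K.π ⟨y, hyL⟩ * L.K.π ⟨x, hxL⟩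
    rw [← map_mul, ← map_mul]
    exact congrArg _ (Subtype.ext hxy)
  have h15 : orderOf (L.K.π ⟨x, hxL⟩ * L.K.π ⟨y, hyL⟩) = 15 := by
    rw [hcom.orderOf_mul_eq_mul_orderOf_of_coprime (by rw [hox, hoy]; norm_num), hox, hoy]
  have hsg : Perm.sign σ = 1 := by
    refine sign_of_comm h15 ?_
    rw [← mul_assoc, key x hxL hx', mul_assoc, key y hyL hy', mul_assoc]
  obtain ⟨c, -, hc⟩ := exists_conj_of_even L (Or.inl rfl) (gen L (Or.inl ⟨rfl, hcard⟩)) hφL hσ (Perm.mem_alternatingGroup.2 hsg)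
  apply ht'N
  apply mem_of_conj hE
  rw [← hφ, hc]
  exact ⟨c, rfl⟩

/-- **no cover** -/
theorem no_cov [Nonempty Ω] (hE : Env G Ω N) (h : Spor.IsoMcL N) {ι : Type} [Finite ι] {x : ι → G} {r : ι → ℕ}
    (hx : PF x r) (hc : Cov Ω x) : False := by
  obtain ⟨hfin, hsim, hcard, ⟨L⟩⟩ := TypeM.FactsMcL.facts h
  have hN := hE.norm
  have hord : ∀ i, orderOf (x i) = r i := fun i => by
    have := Fact.mk (hx.prime i)
    exact orderOf_eq_prime (hx.pow i) (hx.ne i)
  -- the members of odd order are in `N`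
  have hodd : ∀ i, r i ≠ 2 → x i ∈ N := by
    intro i hi
    apply mem_of_conj hE
    apply UGT.End.McLOuter.inner_of_odd L hcard
    have h1 : (MulAut.conjNormal (x i) : MulAut N) ^ r i = 1 := by rw [← map_pow, hx.pow, map_one]
    exact Odd.of_dvd_nat ((hx.prime i).odd_of_ne_two hi) (orderOf_dvd_of_pow_eq_one h1)
  have hordN : ∀ i (hi : r i ≠ 2), orderOf (⟨x i, hodd i hi⟩ : N) = r i := fun i hi => by
    rw [Subgroup.orderOf_mk, hord]
  have hcomN : ∀ i j (hi : r i ≠ 2) (hj : r j ≠ 2),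
      (⟨x i, hodd i hi⟩ : N) * ⟨x j, hodd j hj⟩ = ⟨x j, hodd j hj⟩ * ⟨x i, hodd i hi⟩ := fun i j hi hj =>
    Subtype.ext (hx.comm i j)
  have hprimes : ∀ i, r i ≠ 2 → r i = 3 ∨ r i = 5 ∨ r i = 7 ∨ r i = 11 := by
    intro i hi
    have h1 : r i ∣ 898128000 := by
      rw [← hcard, ← hordN i hi]
      exact orderOf_dvd_natCard _
    have hp := hx.prime i
    rw [show (898128000 : ℕ) = 2 ^ 7 * 3 ^ 6 * 5 ^ 3 * 7 * 11 by norm_num, hp.dvd_mul, hp.dvd_mul, hp.dvd_mul,
      hp.dvd_mul] at h1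
    rcases h1 with (((h1 | h1) | h1) | h1) | h1
    · exact absurd ((Nat.prime_dvd_prime_iff_eq hp Nat.prime_two).1 (hp.dvd_of_dvd_pow h1)) hi
    · exact Or.inl ((Nat.prime_dvd_prime_iff_eq hp Nat.prime_three).1 (hp.dvd_of_dvd_pow h1))
    · exact Or.inr (Or.inl ((Nat.prime_dvd_prime_iff_eq hp Nat.prime_five).1 (hp.dvd_of_dvd_pow h1)))
    · exact Or.inr (Or.inr (Or.inl ((Nat.prime_dvd_prime_iff_eq hp (by norm_num)).1 h1)))
    · exact Or.inr (Or.inr (Or.inr ((Nat.prime_dvd_prime_iff_eq hp (by norm_num)).1 h1)))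
  -- two members of odd order
  have hsmall : ∀ i j, i ≠ j → r i ≠ 2 → r j ≠ 2 → r i = 3 ∨ r i = 5 := by
    intro i j hij hi hj
    have h1 : r j ∣ Nat.card (centralizer ({(⟨x i, hodd i hi⟩ : N)} : Set N)) := by
      rw [← hordN j hj]
      exact Subgroup.orderOf_dvd_natCard _ (mem_centralizer_singleton_iff.2 (hcomN j i hj hi))
    rcases hprimes i hi with h2 | h2 | h2 | h2
    · exact Or.inl h2
    · exact Or.inr h2
    · exfalso
      have h3 := h1.trans (seven h (by rw [hordN i hi, h2]))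
      rw [show 14 = 2 * 7 by norm_num, (hx.prime j).dvd_mul] at h3
      rcases h3 with h3 | h3
      · exact hj ((Nat.prime_dvd_prime_iff_eq (hx.prime j) Nat.prime_two).1 h3)
      · exact hij (hx.inj (h2.trans ((Nat.prime_dvd_prime_iff_eq (hx.prime j) (by norm_num)).1 h3).symm))
    · exfalso
      rw [eleven h (by rw [hordN i hi, h2])] at h1
      exact hij (hx.inj (h2.trans ((Nat.prime_dvd_prime_iff_eq (hx.prime j) (by norm_num)).1 h1).symm))
  by_cases htwo : ∃ i j, r i = 3 ∧ r j = 5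
  · obtain ⟨i, j, hi, hj⟩ := htwo
    have hi2 : r i ≠ 2 := by rw [hi]; norm_num
    have hj2 : r j ≠ 2 := by rw [hj]; norm_num
    obtain ⟨Q, z, hQ, hzy, hyz, hz1, hzQ, hz5, hQm, hQz, hQc, hQ25, -, -⟩ :=
      exists_model h (by rw [hordN i hi2, hi]) (by rw [hordN j hj2, hj]) (hcomN i j hi2 hj2)
    have hzy' : (z : G) ∈ zpowers (x j) := by
      obtain ⟨k, hk⟩ := mem_zpowers_iff.1 hzy
      exact mem_zpowers_iff.2 ⟨k, congrArg Subtype.val hk⟩
    have hcz : ∀ g : G, g * x j = x j * g → g * z = z * g := by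
      intro g hg
      obtain ⟨k, hk⟩ := mem_zpowers_iff.1 hzy'
      rw [← hk]
      exact ((show Commute g (x j) from hg).zpow_right k).eq
    have hstep : ∀ g : G, g * z = z * g → ∀ u : G, u ∈ Q.map N.subtype → g * u * g⁻¹ ∈ Q.map N.subtype := by
      rintro g hg _ ⟨u, hu, rfl⟩
      have h1 : g * u * g⁻¹ ∈ N := hN.conj_mem _ u.2 g
      refine ⟨⟨g * u * g⁻¹, h1⟩, hQm _ ?_ ?_, rfl⟩
      · apply Subtype.ext
        have h2 : (u : G) * z = z * u := congrArg Subtype.val (hQz u hu)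
        have h3 : g⁻¹ * (z : G) = z * g⁻¹ := ((show Commute g (z : G) from hg).inv_left).eq
        show g * u * g⁻¹ * z = z * (g * u * g⁻¹)
        calc g * u * g⁻¹ * (z : G) = g * u * (g⁻¹ * z) := by group
          _ = g * (u * z) * g⁻¹ := by rw [h3]; group
          _ = g * z * u * g⁻¹ := by rw [h2]; group
          _ = z * (g * u * g⁻¹) := by rw [hg]; group
      · apply Subtype.ext
        rw [Subgroup.coe_pow, conj_pow]
        have h2 : u ^ 125 = 1 := by
          have := pow_card_eq_one' (x := (⟨u, hu⟩ : Q))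
          rw [hQ] at this
          exact congrArg Subtype.val this
        have h3 : (u : G) ^ 125 = 1 := by
          rw [← Subgroup.coe_pow, h2]
          rfl
        rw [h3]
        simp
    have hpz : orderOf z = 5 := by
      have : Fact (Nat.Prime 5) := ⟨Nat.prime_five⟩
      exact orderOf_eq_prime hz5 hz1
    have hcardQ : Nat.card (Q.map N.subtype) = 5 ^ 3 := by
      rw [Subgroup.card_map_of_injective N.subtype_injective, hQ]
      norm_num
    refine ruleA' hE hx hc Nat.prime_five (Q.map N.subtype) (IsPGroup.of_card hcardQ) ?_ (z := (z : G)) ?_ ?_ ?_ ?_ ?_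
    · intro k
      rw [mem_normalizer_iff]
      have hk := hcz (x k) (hx.comm k j)
      have hk' : (x k)⁻¹ * (z : G) = z * (x k)⁻¹ := ((show Commute (x k) (z : G) from hk).inv_left).eq
      intro u
      constructor
      · exact hstep _ hk u
      · intro hu
        have h1 := hstep _ hk' _ hu
        rw [inv_inv] at h1
        have h2 : (x k)⁻¹ * (x k * u * (x k)⁻¹) * x k = u := by group
        rwa [h2] at h1
    · intro h1
      exact hz1 (Subtype.ext h1)
    · rintro _ ⟨u, hu, rfl⟩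
      exact congrArg Subtype.val (hQz u hu)
    · rintro _ ⟨w, hw, rfl⟩ hwc - hw1
      have h1 : w ∈ zpowers z := hQc w hw fun u hu => Subtype.ext (hwc (u : G) ⟨u, hu, rfl⟩)
      have h2 : w ≠ 1 := by
        rintro rfl
        exact hw1 rfl
      have h3 : zpowers w = zpowers z := by
        apply Subgroup.eq_of_le_of_card_ge (zpowers_le.2 h1)
        rw [Nat.card_zpowers, Nat.card_zpowers]
        have h4 : orderOf w ∣ 5 := by
          rw [← hpz, ← Nat.card_zpowers z]
          exact Subgroup.orderOf_dvd_natCard _ h1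
        rcases (Nat.dvd_prime Nat.prime_five).1 h4 with h5 | h5
        · exact absurd (orderOf_eq_one_iff.1 h5) h2
        · rw [h5, hpz]
      have h4 : z ∈ zpowers w := by rw [h3]; exact mem_zpowers z
      obtain ⟨k, hk⟩ := mem_zpowers_iff.1 h4
      exact mem_zpowers_iff.2 ⟨k, congrArg Subtype.val hk⟩
    · intro k hk
      by_contra hcon
      push Not at hcon
      by_cases hkN : x k ∈ N
      · have h1 := hQ25 ⟨x k, hkN⟩ fun u hu => Subtype.ext (hcon (u : G) ⟨u, hu, rfl⟩)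
        rw [Subgroup.orderOf_mk, hord, show 25 = 5 ^ 2 by norm_num] at h1
        exact hk ((Nat.prime_dvd_prime_iff_eq (hx.prime k) Nat.prime_five).1 ((hx.prime k).dvd_of_dvd_pow h1))
      · exact no_outer hE h hkN (x := ⟨x i, hodd i hi2⟩) (y := ⟨x j, hodd j hj2⟩) (by rw [hordN i hi2, hi])
          (by rw [hordN j hj2, hj]) (hcomN i j hi2 hj2) (hx.comm k i) (hx.comm k j)
    · intro k hk
      have h1 : k = j := hx.inj (hk.trans hj.symm)
      rw [h1]
      exact hzy'
  · -- at most one member of odd order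
    have huniq : ∀ i j, r i ≠ 2 → r j ≠ 2 → i = j := by
      intro i j hi hj
      by_contra hij
      rcases hsmall i j hij hi hj with h1 | h1 <;> rcases hsmall j i (Ne.symm hij) hj hi with h2 | h2
      · exact hij (hx.inj (h1.trans h2.symm))
      · exact htwo ⟨i, j, h1, h2⟩
      · exact htwo ⟨j, i, h2, h1⟩
      · exact hij (hx.inj (h1.trans h2.symm))
    obtain ⟨ω⟩ := (inferInstance : Nonempty Ω)
    obtain ⟨i0, -⟩ := hc ω
    obtain ⟨j0, hj0⟩ := Cov.two hE hc hx.ne i0
    obtain ⟨a, b, ha, hb⟩ : ∃ a b, r a = 2 ∧ r b ≠ 2 := by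
      by_cases h1 : r i0 = 2
      · exact ⟨i0, j0, h1, fun h2 => hj0 (hx.inj (h2.trans h1.symm))⟩
      · refine ⟨j0, i0, ?_, h1⟩
        by_contra h2
        exact hj0 (huniq j0 i0 h2 h1)
    have hall : ∀ k, k = a ∨ k = b := by
      intro k
      by_cases h1 : r k = 2
      · exact Or.inl (hx.inj (h1.trans ha.symm))
      · exact Or.inr (huniq k b h1 hb)
    refine dead_two hE h (t := x a) (y := x b) ?_ (hx.ne a) (hodd b hb) (hx.ne b) ?_ (hx.comm b a) ?_
    · have h1 := hx.pow a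
      rwa [ha, pow_two] at h1
    · intro h1
      apply hb
      rw [← hord, h1, hord, ha]
    · intro ω
      obtain ⟨k, hk⟩ := hc ω
      rcases hall k with rfl | rfl
      · exact Or.inl hk
      · exact Or.inr hk

end env

/-- **`McL`** -/
theorem rc_mcl {S : Type} [Group S] (h : Spor.IsoMcL S) : RC S := by
  obtain ⟨hfin, hs, hcard, ⟨L⟩⟩ := TypeM.FactsMcL.facts h
  have hsn : ¬ IsMulCommutative S := fun hc =>
    L.t_ne (UGT.End.McLOuter.eq_one_of_central L (x := L.t) fun y => hc.is_comm.comm _ _)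
  refine rc_of_noCov hs hsn ?_
  intro G _ _ Ω _ _ _ N hE e ι _ x r hx hc hm
  obtain ⟨f⟩ := h
  exact no_cov hE ⟨e.trans f⟩ hx hc

open Cfsg.Agent.H873.RG in
/-- **the row `McL` of the sporadic block of S3509** -/
theorem row_mcl : RowX (fun S _ => Spor.IsoMcL S) := Cfsg.Agent.H867.RG.RowX.of_rc fun _ _ _ h => rc_mcl h

end Cfsg.Agent.H109.RG.McL
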